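import Cfsg.Agent.H781.TC6.Def

/-!
# S2464, `Ω_(2n+1)(q)`: good polynomials (helper962)

* `nsq_of_irr` : a matrix with irreducible characteristic polynomial commutes with an invertible matrix of nonsquare
  determinant (norms of finite fields are onto);
* `ex_of_pol` : the exception of Theorem L does not occur;
* `gf_of_num` : `GF n N f` from divisibility conditions on `N`.
-/

set_option autoImplicit false

namespace Cfsg.Agent.H962.T6

open Matrix Polynomial Cfsg.Agent.H126.PwO Cfsg.Agent.H781.TC6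

section

variable {F : Type*} [Field F] {n : ℕ}

/-- the matrix model of `F[X] / (charpoly)` -/
theorem exists_model {X : Matrix (Fin n) (Fin n) F} (hn : 0 < n) (hX : Irreducible X.charpoly) :
    ∃ (φ : AdjoinRoot X.charpoly →ₐ[F] Matrix (Fin n) (Fin n) F), φ (AdjoinRoot.root _) = X ∧
      ∀ z, (φ z).det = Algebra.norm F z := by
  have : Fact (Irreducible X.charpoly) := ⟨hX⟩
  have hX0 : X.charpoly ≠ 0 := hX.ne_zero
  let φ : AdjoinRoot X.charpoly →ₐ[F] Matrix (Fin n) (Fin n) F :=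
    Ideal.Quotient.liftₐ (Ideal.span {X.charpoly}) (aeval X) (by
      intro a ha
      obtain ⟨b, rfl⟩ := Ideal.mem_span_singleton.1 ha
      rw [map_mul, X.aeval_self_charpoly, zero_mul])
  have hφ : φ (AdjoinRoot.root _) = X := by
    have h1 : φ (AdjoinRoot.root _) = aeval X (Polynomial.X : F[X]) := rfl
    rw [h1, aeval_X]
  refine ⟨φ, hφ, fun z => ?_⟩
  let v : Fin n → F := Pi.single ⟨0, hn⟩ 1
  have hv : v ≠ 0 := by
    intro h
    have := congrFun h ⟨0, hn⟩
    simp [v] at this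
  let e0 : AdjoinRoot X.charpoly →ₗ[F] (Fin n → F) :=
    { toFun := fun z => (φ z) *ᵥ v
      map_add' := fun a b => by rw [map_add, add_mulVec]
      map_smul' := fun c a => by rw [map_smul, smul_mulVec, RingHom.id_apply] }
  have hinj : Function.Injective e0 := by
    rw [← LinearMap.ker_eq_bot, LinearMap.ker_eq_bot']
    intro z hz
    by_contra hz0
    apply hv
    have h1 : φ z⁻¹ *ᵥ (φ z *ᵥ v) = v := by
      rw [mulVec_mulVec, ← map_mul, inv_mul_cancel₀ hz0, map_one, one_mulVec]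
    have h2 : φ z *ᵥ v = 0 := hz
    rw [h2, mulVec_zero] at h1
    exact h1.symm
  let pb := AdjoinRoot.powerBasis hX0
  have : FiniteDimensional F (AdjoinRoot X.charpoly) := pb.finite
  have hdim : Module.finrank F (AdjoinRoot X.charpoly) = Module.finrank F (Fin n → F) := by
    rw [pb.finrank, AdjoinRoot.powerBasis_dim, charpoly_natDegree_eq_dim, Module.finrank_fin_fun, Fintype.card_fin]
  let e : AdjoinRoot X.charpoly ≃ₗ[F] (Fin n → F) := LinearEquiv.ofInjectiveOfFinrankEq e0 hinj hdim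
  have he : ∀ z, e z = φ z *ᵥ v := fun z => rfl
  have h1 : toLin' (φ z) = (e : AdjoinRoot X.charpoly →ₗ[F] (Fin n → F)) ∘ₗ (LinearMap.mulLeft F z) ∘ₗ
      (e.symm : (Fin n → F) →ₗ[F] AdjoinRoot X.charpoly) := by
    apply LinearMap.ext
    intro w
    obtain ⟨y, rfl⟩ := e.surjective w
    simp only [LinearMap.comp_apply, LinearEquiv.coe_coe, LinearEquiv.symm_apply_apply, LinearMap.mulLeft_apply,
      toLin'_apply]
    rw [he, he, map_mul, mulVec_mulVec]
  have h2 : (φ z).det = LinearMap.det (toLin' (φ z)) := by rw [LinearMap.det_toLin']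
  rw [h2, h1, LinearMap.det_conj, Algebra.norm_apply]
  rfl

theorem nsq_of_irr [Finite F] (hodd : Odd (Nat.card F)) {X : Matrix (Fin n) (Fin n) F} (hn : 0 < n)
    (hX : Irreducible X.charpoly) : ∃ Z : GL (Fin n) F, (Z : Matrix (Fin n) (Fin n) F) * X =
      X * (Z : Matrix (Fin n) (Fin n) F) ∧ ¬ IsSquare (Z : Matrix (Fin n) (Fin n) F).det := by
  classical
  have := Fintype.ofFinite F
  have : Fact (Irreducible X.charpoly) := ⟨hX⟩
  obtain ⟨φ, h1, h2⟩ := exists_model hn hX
  have hchar : ringChar F ≠ 2 := by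
    intro h
    have h3 := FiniteField.even_card_iff_char_two.1 h
    rw [Nat.card_eq_fintype_card, Nat.odd_iff] at hodd
    omega
  obtain ⟨a, ha⟩ := FiniteField.exists_nonsquare hchar
  have hX0 : X.charpoly ≠ 0 := hX.ne_zero
  have : FiniteDimensional F (AdjoinRoot X.charpoly) := (AdjoinRoot.powerBasis hX0).finite
  have : Finite (AdjoinRoot X.charpoly) := Module.finite_of_finite F
  obtain ⟨z, hz⟩ := FiniteField.norm_surjective F (AdjoinRoot X.charpoly) a
  have ha0 : a ≠ 0 := by rintro rfl; exact ha IsSquare.zero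
  have hd : (φ z).det ≠ 0 := by rw [h2, hz]; exact ha0
  refine ⟨Matrix.GeneralLinearGroup.mkOfDetNeZero (φ z) hd, ?_, ?_⟩
  · show φ z * X = X * φ z
    have h3 : φ z * φ (AdjoinRoot.root _) = φ (AdjoinRoot.root _) * φ z := by
      rw [← map_mul, ← map_mul, mul_comm]
    rwa [h1] at h3
  · show ¬ IsSquare (φ z).det
    rw [h2, hz]
    exact ha

theorem exists_model_inj {X : Matrix (Fin n) (Fin n) F} (hn : 0 < n) (hX : Irreducible X.charpoly)
    (φ : AdjoinRoot X.charpoly →ₐ[F] Matrix (Fin n) (Fin n) F) : Function.Injective φ := by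
  have : Fact (Irreducible X.charpoly) := ⟨hX⟩
  have : Nonempty (Fin n) := ⟨⟨0, hn⟩⟩
  exact φ.toRingHom.injective

/-- two roots of an irreducible polynomial over a finite field -/
theorem exists_frob {K : Type*} [Finite F] [Field K] [Finite K] [Algebra F K] {f : F[X]} (hm : f.Monic)
    (hirr : Irreducible f) {a b : K} (ha : aeval a f = 0) (hb : aeval b f = 0) :
    ∃ i < Module.finrank F K, b = a ^ (Nat.card F ^ i) := by
  classical
  have : Fintype F := Fintype.ofFinite F
  have h1 : minpoly F a = f := (minpoly.eq_of_irreducible_of_monic hirr ha hm).symm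
  have h2 : minpoly F b = f := (minpoly.eq_of_irreducible_of_monic hirr hb hm).symm
  have hconj : IsConjRoot F b a := by
    show minpoly F b = minpoly F a
    rw [h1, h2]
  rw [isConjRoot_iff_exists_algEquiv] at hconj
  obtain ⟨σ, hσ⟩ := hconj
  obtain ⟨i, hi⟩ := (FiniteField.bijective_frobeniusAlgEquivOfAlgebraic_pow F K).2 σ
  have h3 : ∀ (k : ℕ) (x : K), (FiniteField.frobeniusAlgEquivOfAlgebraic F K ^ k) x =
      x ^ (Fintype.card F ^ k) := by
    intro k
    induction k with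
    | zero => intro x; rw [pow_zero, pow_zero, pow_one]; rfl
    | succ k ih =>
      intro x
      rw [pow_succ, AlgEquiv.mul_apply, ih, FiniteField.frobeniusAlgEquivOfAlgebraic_apply, ← pow_mul, pow_succ,
        mul_comm]
  simp only at hi
  refine ⟨i, i.2, ?_⟩
  rw [← hi, h3, ← Nat.card_eq_fintype_card] at hσ
  exact hσ.symm

/-- **the exception of Theorem L does not occur** -/
theorem ex_of_order [Finite F] {f : F[X]} {N : ℕ} (hn : 2 ≤ n) (hm : f.Monic) (hirr : Irreducible f)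
    (hdeg : f.natDegree = n) (hdvd : ∀ k, f ∣ Polynomial.X ^ k - 1 ↔ N ∣ k)
    (hN : ∀ i < n, ¬ N ∣ (Nat.card F ^ i + 1) * (Nat.card F - 1)) (X : Matrix (Fin n) (Fin n) F) (c : F)
    (hX : X.charpoly = f) : (c • X⁻¹).charpoly ≠ f := by
  classical
  intro hc
  subst hX
  have hXi : Irreducible X.charpoly := hirr
  have hX0 : X.charpoly ≠ 0 := hXi.ne_zero
  have : Fact (Irreducible X.charpoly) := ⟨hXi⟩
  obtain ⟨φ, h1, -⟩ := exists_model (by omega) hXi
  have hinj := exists_model_inj (by omega) hXi φ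
  let α : AdjoinRoot X.charpoly := AdjoinRoot.root _
  have hα : aeval α X.charpoly = 0 := by
    rw [AdjoinRoot.aeval_eq, AdjoinRoot.mk_self]
  have hc0 : X.charpoly.coeff 0 ≠ 0 := Cfsg.Agent.H140.OreO.coeff_zero_ne hXi (by rw [hdeg]; exact hn)
  have hα0 : α ≠ 0 := by
    intro h
    rw [h, aeval_def, eval₂_at_zero] at hα
    exact hc0 ((map_eq_zero_iff _ (algebraMap F (AdjoinRoot X.charpoly)).injective).1 hα)
  have hXinv : φ α⁻¹ = X⁻¹ := by
    have h2 : φ α⁻¹ * X = 1 := by
      have h3 : φ α⁻¹ * φ α = 1 := by rw [← map_mul, inv_mul_cancel₀ hα0, map_one]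
      rwa [show φ α = X from h1] at h3
    exact (Matrix.inv_eq_left_inv h2).symm
  have hb : aeval (algebraMap F (AdjoinRoot X.charpoly) c * α⁻¹) X.charpoly = 0 := by
    apply hinj
    have h3 : φ (algebraMap F (AdjoinRoot X.charpoly) c * α⁻¹) = c • X⁻¹ := by
      rw [map_mul, hXinv, φ.commutes, ← Algebra.smul_def]
    rw [map_zero, ← aeval_algHom_apply, h3, ← hc, aeval_self_charpoly]
  let pb := AdjoinRoot.powerBasis hX0
  have : FiniteDimensional F (AdjoinRoot X.charpoly) := pb.finite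
  have : Finite (AdjoinRoot X.charpoly) := Module.finite_of_finite F
  have hfr : Module.finrank F (AdjoinRoot X.charpoly) = n := by
    rw [pb.finrank, AdjoinRoot.powerBasis_dim, hdeg]
  obtain ⟨i, hi, he⟩ := exists_frob hm hXi hα hb
  rw [hfr] at hi
  have hcc : c ≠ 0 := by
    rintro rfl
    rw [map_zero, zero_mul, aeval_def, eval₂_at_zero] at hb
    exact hc0 ((map_eq_zero_iff _ (algebraMap F (AdjoinRoot X.charpoly)).injective).1 hb)
  apply hN i hi
  rw [← hdvd]
  have h4 : α ^ (Nat.card F ^ i + 1) = algebraMap F _ c := by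
    rw [pow_succ, ← he, mul_assoc, inv_mul_cancel₀ hα0, mul_one]
  have h5 : α ^ ((Nat.card F ^ i + 1) * (Nat.card F - 1)) = 1 := by
    have := Fintype.ofFinite F
    rw [pow_mul, h4, ← map_pow, Nat.card_eq_fintype_card, FiniteField.pow_card_sub_one_eq_one c hcc, map_one]
  have h6 : aeval α (Polynomial.X ^ ((Nat.card F ^ i + 1) * (Nat.card F - 1)) - 1 : F[X]) = 0 := by
    rw [map_sub, map_pow, aeval_X, map_one, h5, sub_self]
  have h7 : minpoly F α = X.charpoly := (minpoly.eq_of_irreducible_of_monic hXi hα hm).symm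
  rw [← h7]
  exact minpoly.dvd F α h6

/-- the numerical condition from primitive prime divisors -/
theorem num_of_ppd {q n N r₁ r₂ : ℕ} (hq : 2 ≤ q) (hn : 3 ≤ n) (hr₁ : r₁.Prime) (h1 : r₁ ∣ N) (h12 : r₁ ≠ 2)
    (h1n : r₁ ∣ q ^ n - 1) (h1m : ∀ k, 0 < k → k < n → ¬ r₁ ∣ q ^ k - 1)
    (h2 : Odd n ∨ (r₂.Prime ∧ r₂ ≠ 2 ∧ r₂ ∣ N ∧ r₂ ∣ q ^ (n / 2) - 1 ∧ ¬ r₂ ∣ q - 1)) :
    ∀ i < n, ¬ N ∣ (q ^ i + 1) * (q - 1) := by
  have key : ∀ r : ℕ, r ∣ N → r.Prime → ¬ r ∣ q - 1 → ∀ i, N ∣ (q ^ i + 1) * (q - 1) → r ∣ q ^ i + 1 := by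
    intro r hr hp hq1 i hd
    exact ((Nat.Prime.dvd_mul hp).1 (hr.trans hd)).resolve_right hq1
  have sq : ∀ r i : ℕ, r ∣ q ^ i + 1 → r ∣ q ^ (2 * i) - 1 := by
    intro r i hd
    have e : q ^ (2 * i) - 1 = (q ^ i + 1) * (q ^ i - 1) := by
      have := Nat.sq_sub_sq (q ^ i) 1
      rw [one_pow, ← pow_mul, mul_comm i 2] at this
      exact this
    rw [e]
    exact hd.mul_right _
  intro i hi hd
  have h3 := key r₁ h1 hr₁ (by
    have := h1m 1 (by omega) (by omega)
    rwa [pow_one] at this) i hd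
  rcases Nat.eq_zero_or_pos i with rfl | hi0
  · rw [pow_zero] at h3
    have := (Nat.prime_dvd_prime_iff_eq hr₁ Nat.prime_two).1 h3
    exact h12 this
  -- `n ∣ 2 i`
  have h4 : r₁ ∣ q ^ Nat.gcd (2 * i) n - 1 := by
    rw [← Nat.pow_sub_one_gcd_pow_sub_one]
    exact Nat.dvd_gcd (sq r₁ i h3) h1n
  have hg : 0 < Nat.gcd (2 * i) n := Nat.gcd_pos_of_pos_right _ (by omega)
  have hgn : Nat.gcd (2 * i) n = n := by
    have hle : Nat.gcd (2 * i) n ≤ n := Nat.gcd_le_right _ (by omega)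
    rcases lt_or_eq_of_le hle with h | h
    · exact absurd h4 (h1m _ hg h)
    · exact h
  have hdvd : n ∣ 2 * i := by rw [← hgn]; exact Nat.gcd_dvd_left _ _
  obtain ⟨t, ht⟩ := hdvd
  have ht1 : t = 1 := by
    have h5 : t < 2 := by
      by_contra hcon
      have : n * 2 ≤ n * t := Nat.mul_le_mul_left _ (by omega)
      omega
    have h6 : t ≠ 0 := by rintro rfl; omega
    omega
  subst ht1
  rcases h2 with hodd | ⟨hr₂, h22, h2N, h2d, h2q⟩
  · rw [Nat.odd_iff] at hodd
    omega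
  · have h7 := key r₂ h2N hr₂ h2q i hd
    have h8 : n / 2 = i := by omega
    rw [h8] at h2d
    have h9 : 1 ≤ q ^ i := Nat.one_le_pow _ _ (by omega)
    have h10 : r₂ ∣ 2 := by
      have := Nat.dvd_sub h7 h2d
      have e : q ^ i + 1 - (q ^ i - 1) = 2 := by omega
      rwa [e] at this
    exact h22 ((Nat.prime_dvd_prime_iff_eq hr₂ Nat.prime_two).1 h10)

end

end Cfsg.Agent.H962.T6
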